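import Groth.Agent.Sga4h.WayOut

/-!
# The last step of the Leray argument

* `homology_TR_edge`: `H^q(TR G' L) ≅ G' (H^q L)` for `L` in `D^{≥ q}`.
* `leray_edge`: if `R^m G X ∈ P` for `m < q`, `R^a G' (P) ⊆ Q` and `R^b (G ⋙ G') X ∈ Q` for `b = q, q + 1`, then
  `G' (R^q G X) ∈ Q`.
-/

set_option autoImplicit false
universe v v' v'' u u' u''
open CategoryTheory CategoryTheory.Limits

namespace Groth.Agent.Etdl.H431.LER

open DerivedCategory Groth.Agent.Etrest.RDer3 Groth.Agent.Sga4h.WayOut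

variable {A : Type u} [Category.{v} A] [Abelian A] {B : Type u'} [Category.{v'} B] [Abelian B]
  {C : Type u''} [Category.{v''} C] [Abelian C] (G : A ⥤ B) [G.Additive] (G' : B ⥤ C) [G'.Additive]

attribute [local instance] HasDerivedCategory.standard

/-- The bottom cohomology of `TR G' L` for `L` in `D^{≥ q}`. -/
theorem nonempty_homology_TR_edge [EnoughInjectives B] [HasKInj B] [PreservesFiniteLimits G']
    (L : DerivedCategory B) (q : ℤ) [L.IsGE q] :
    Nonempty ((homologyFunctor C q).obj ((TR G').obj L) ≅ G'.obj ((homologyFunctor B q).obj L)) := by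
  obtain ⟨X, Y, hX, hY, f, g, δ, hT⟩ := Cohder.KZDevissage.exists_trunc L q
  have hXq : X.IsGE q := Cohder.KZDevissage.trunc₁_isGE hT q q
  have hf : IsIso ((homologyFunctor B q).map f) := Cohder.KZDevissage.isIso_trunc₁ hT q q le_rfl
  obtain ⟨M, ⟨e⟩⟩ := exists_iso_singleFunctor_obj_of_isGE_of_isLE X q
  have hT' := (TR G').map_distinguished _ hT
  have hYG : ((TR G').obj Y).IsGE (q + 1) := TR_isGE G' Y (q + 1)
  have hfm : Mono ((homologyFunctor C q).map ((TR G').map f)) := by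
    refine (DerivedCategory.HomologySequence.mono_homologyMap_mor₁_iff _ hT' (q - 1) q (by lia)).2 ?_
    exact (DerivedCategory.isZero_of_isGE ((TR G').obj Y) (q + 1) (q - 1) (by lia)).eq_of_src _ _
  have hfe : Epi ((homologyFunctor C q).map ((TR G').map f)) := by
    refine (DerivedCategory.HomologySequence.epi_homologyMap_mor₁_iff _ hT' q).2 ?_
    exact (DerivedCategory.isZero_of_isGE ((TR G').obj Y) (q + 1) q (by lia)).eq_of_tgt _ _
  have hfi : IsIso ((homologyFunctor C q).map ((TR G').map f)) := isIso_of_mono_of_epi _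
  -- the value on `X ≅ M[-q]`
  obtain ⟨e'⟩ := nonempty_iso_homology_single (TR G') M q q 0 (by lia)
  let i1 : (homologyFunctor C q).obj ((TR G').obj X) ≅ G'.obj M :=
    (homologyFunctor C q).mapIso ((TR G').mapIso e) ≪≫ e' ≪≫ (HTRsingle G' 0).app M ≪≫
      G'.rightDerivedZeroIsoSelf.app M
  let i2 : (homologyFunctor B q).obj L ≅ M :=
    (asIso ((homologyFunctor B q).map f)).symm ≪≫ (homologyFunctor B q).mapIso e ≪≫
      (singleFunctorCompHomologyFunctorIso B q).app M
  exact ⟨(asIso ((homologyFunctor C q).map ((TR G').map f))).symm ≪≫ i1 ≪≫ G'.mapIso i2.symm⟩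

/-- The last step of the Leray argument. -/
theorem leray_edge [EnoughInjectives A] [HasKInj A] [EnoughInjectives B] [HasKInj B]
    [PreservesFiniteLimits G']
    (hG : ∀ I : CochainComplex A ℤ, I.IsKInjective →
      CochainComplex.IsKInjective ((G.mapHomologicalComplex (.up ℤ)).obj I))
    {P : ObjectProperty B} {Q : ObjectProperty C} (hQ : WeakSerre Q)
    (hP : ∀ {X Y : B}, (X ≅ Y) → P X → P Y) (hP0 : ∀ X : B, IsZero X → P X)
    (h : ∀ M : B, P M → ∀ a : ℕ, Q ((G'.rightDerived a).obj M))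
    (X : A) (q : ℕ) (hX : ∀ m : ℕ, m < q → P ((G.rightDerived m).obj X))
    (hc : Q (((G ⋙ G').rightDerived q).obj X)) (hc' : Q (((G ⋙ G').rightDerived (q + 1)).obj X)) :
    Q (G'.obj ((G.rightDerived q).obj X)) := by
  set K := (TR G).obj ((singleFunctor A 0).obj X) with hK
  have hK0 : K.IsGE 0 := TR_isGE G _ 0
  have hc2 : ∀ n : ℕ, Nonempty ((homologyFunctor C (n : ℤ)).obj ((TR G').obj K) ≅
      ((G ⋙ G').rightDerived n).obj X) := fun n =>
    ⟨(homologyFunctor C (n : ℤ)).mapIso ((TRcomp G G' hG).app _).symm ≪≫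
      (HTRsingle (G ⋙ G') n).app X⟩
  obtain ⟨U, V, hU, hV, f, g, δ, hT⟩ := Cohder.KZDevissage.exists_trunc K ((q : ℤ) - 1)
  have hU0 : U.IsGE 0 := Cohder.KZDevissage.trunc₁_isGE hT ((q : ℤ) - 1) 0
  have hVq : V.IsGE (q : ℤ) := by simpa using hV
  have hUP : ∀ i : ℤ, 0 ≤ i → P ((homologyFunctor B i).obj U) := by
    intro i hi
    by_cases hiq : i ≤ (q : ℤ) - 1
    · have := Cohder.KZDevissage.isIso_trunc₁ hT ((q : ℤ) - 1) i hiq
      obtain ⟨k, rfl⟩ := Int.eq_ofNat_of_zero_le hi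
      exact hP ((asIso ((homologyFunctor B (k : ℤ)).map f)) ≪≫ (HTRsingle G k).app X).symm
        (hX k (by lia))
    · exact hP0 _ (DerivedCategory.isZero_of_isLE U ((q : ℤ) - 1) i (by lia))
  have hUQ : ∀ i : ℤ, Q ((homologyFunctor C i).obj ((TR G').obj U)) := fun i =>
    homology_TR G' hQ hP h U 0 hUP i
  have hT' := (TR G').map_distinguished _ hT
  have hVQ : Q ((homologyFunctor C (q : ℤ)).obj ((TR G').obj V)) := by
    refine homology_mid₃ hQ _ hT' (q : ℤ) (hUQ _) ?_ (hUQ _) ?_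
    · obtain ⟨e⟩ := hc2 q
      exact hQ.iso e.symm hc
    · obtain ⟨e⟩ := hc2 (q + 1)
      exact hQ.iso e.symm hc'
  obtain ⟨e⟩ := nonempty_homology_TR_edge G' V (q : ℤ)
  have hg : IsIso ((homologyFunctor B (q : ℤ)).map g) :=
    Cohder.KZDevissage.isIso_trunc₂ hT ((q : ℤ) - 1) (q : ℤ) (by lia)
  refine hQ.iso (e ≪≫ G'.mapIso ((asIso ((homologyFunctor B (q : ℤ)).map g)).symm ≪≫
    (HTRsingle G q).app X)) hVQ

end Groth.Agent.Etdl.H431.LER
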