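import Groth.Agent.Etdl.H431.LER
import Groth.Agent.Sga4h.ConsWO

/-!
# The last step of the Leray argument, for direct images of étale sheaves

* `push_rpush_mem` : `R^m f_* F ∈ P` for `m < q`, `R^a g_* P ⊆ Q` and `R^b (f ≫ g)_* F ∈ Q` for `b = q, q + 1` imply
  `g_* R^q f_* F ∈ Q`.
* `cn_push_rpush` : the case of the classes `Cn n`.
-/

set_option autoImplicit false
universe u
open CategoryTheory CategoryTheory.Limits AlgebraicGeometry Opposite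

namespace Groth.Agent.Etdl.H431.LERPush

open Groth.Agent.Sga4h.WayOut Groth.Agent.Sga4h.ConsWO Groth.Agent.Etrest

variable {n : ℕ} {X Y Z : Scheme.{u}}

/-- `g_* R^q f_* F ∈ Q` from `R^m f_* F ∈ P` for `m < q` and `R^b (f ≫ g)_* F ∈ Q` for `b = q, q + 1`. -/
theorem push_rpush_mem (f : X ⟶ Y) (g : Y ⟶ Z) {P : ObjectProperty (EtCoh.Ab Y)}
    {Q : ObjectProperty (EtCoh.Ab Z)} (hQ : WeakSerre Q) (hP : ∀ {M N : EtCoh.Ab Y}, (M ≅ N) → P M → P N)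
    (hP0 : ∀ M : EtCoh.Ab Y, IsZero M → P M)
    (h : ∀ M : EtCoh.Ab Y, P M → ∀ a : ℕ, Q ((EtCoh.Rpush g a).obj M)) (F : EtCoh.Ab X) (q : ℕ)
    (hF : ∀ m : ℕ, m < q → P ((EtCoh.Rpush f m).obj F))
    (hc : Q ((EtCoh.Rpush (f ≫ g) q).obj F)) (hc' : Q ((EtCoh.Rpush (f ≫ g) (q + 1)).obj F)) :
    Q ((EtCoh.push g).obj ((EtCoh.Rpush f q).obj F)) :=
  LER.leray_edge (EtCoh.push f) (EtCoh.push g) (isKInjective_push f) hQ hP hP0 h F q hF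
    (hQ.iso ((Sga4h.LerayAcyc.rightDerivedCongr (EtCoh.pushComp g f) q).app F).symm hc)
    (hQ.iso ((Sga4h.LerayAcyc.rightDerivedCongr (EtCoh.pushComp g f) (q + 1)).app F).symm hc')

/-- (LER): if `R^m f_* F` is in `Cn` for `m < q`, `R^a g_*` preserves `Cn` and `R^b (f ≫ g)_* F` is in `Cn` for
`b = q, q + 1`, then `g_* R^q f_* F` is in `Cn`. -/
theorem cn_push_rpush (f : X ⟶ Y) (g : Y ⟶ Z) (F : EtCoh.Ab X) (q : ℕ)
    (hF : ∀ m : ℕ, m < q → Cn n Y ((EtCoh.Rpush f m).obj F))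
    (h : ∀ M : EtCoh.Ab Y, Cn n Y M → ∀ a : ℕ, Cn n Z ((EtCoh.Rpush g a).obj M))
    (hc : Cn n Z ((EtCoh.Rpush (f ≫ g) q).obj F)) (hc' : Cn n Z ((EtCoh.Rpush (f ≫ g) (q + 1)).obj F)) :
    Cn n Z ((EtCoh.push g).obj ((EtCoh.Rpush f q).obj F)) :=
  push_rpush_mem f g (weakSerre_Cn n Z) Cn.iso (weakSerre_Cn n Y).zero h F q hF hc hc'

end Groth.Agent.Etdl.H431.LERPush
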