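import Groth.Agent.Etdl.H434.Defs
import Groth.Agent.Etdl.H434.Dev
import Groth.Agent.Etdl.H437.WeierQuot
import Groth.Agent.Sga4h.GSqEt
import Groth.Agent.S3123
import Mathlib.RingTheory.MvPowerSeries.NoZeroDivisors

/-!
# The induction step `FT m`, `FO (m + 1)` imply `FT (m + 1)`
-/

set_option autoImplicit false
universe u
open CategoryTheory CategoryTheory.Limits AlgebraicGeometry Opposite

namespace Groth.Agent.Etdl.H431.Succ

open Groth.Agent.Sga4h Groth.Agent.Sga4h.ConsWO Groth.Agent.Sga4h.PushDer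
open Groth.Agent.Sga4h.FinD Groth.Agent.Etdl.H434.Defs Groth.Agent.Etdl.H434

/-- The closed immersion `Spec (A / g) ⟶ Spec A`. -/
noncomputable abbrev tg {A : Type u} [CommRing A] (g : A) :
    Spec (CommRingCat.of (A ⧸ Ideal.span {g})) ⟶ Spec (CommRingCat.of A) :=
  Spec.map (CommRingCat.ofHom (Ideal.Quotient.mk (Ideal.span {g})))

instance isClosedImmersion_tg {A : Type u} [CommRing A] (g : A) : IsClosedImmersion (tg g) :=
  IsClosedImmersion.spec_of_surjective _ Ideal.Quotient.mk_surjective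

instance isOpenImmersion_jg {A : Type u} [CommRing A] (g : A) : IsOpenImmersion (jg g) :=
  inferInstance

theorem range_jg {A : Type u} [CommRing A] (g : A) :
    Set.range (jg g) = {x : Spec (CommRingCat.of A) | g ∉ x.asIdeal} :=
  PrimeSpectrum.localization_away_comap_range (Localization.Away g) g

theorem range_tg {A : Type u} [CommRing A] (g : A) :
    Set.range (tg g) = (Set.range (jg g))ᶜ := by
  rw [range_jg]
  have h1 : Set.range (PrimeSpectrum.comap (Ideal.Quotient.mk (Ideal.span {g}))) =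
      PrimeSpectrum.zeroLocus (Ideal.span {g} : Ideal A) := by
    rw [range_comap_of_surjective _ _ Ideal.Quotient.mk_surjective, Ideal.mk_ker]
  refine (show Set.range (tg g) = Set.range (PrimeSpectrum.comap (Ideal.Quotient.mk (Ideal.span {g})))
    from rfl).trans (h1.trans ?_)
  ext x
  refine (PrimeSpectrum.mem_zeroLocus x _).trans ?_
  rw [SetLike.coe_subset_coe, Ideal.span_le, Set.singleton_subset_iff]
  exact not_not.symm

/-- Étale base change for one higher direct image. -/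
theorem nonempty_iso_of_etale {X Y X' Y' : Scheme.{u}} {f : X ⟶ Y} {g : Y' ⟶ Y} {f' : X' ⟶ Y'}
    {g' : X' ⟶ X} (h : IsPullback g' f' f g) [Etale g] (F : EtCoh.Ab X) (q : ℕ) :
    Nonempty ((EtCoh.pull g).obj ((EtCoh.Rpush f q).obj F) ≅
      (EtCoh.Rpush f' q).obj ((EtCoh.pull g').obj F)) :=
  GSq.nonempty_baseChange_iso F (GSq.bc_of_etale h _) q

theorem exists_basicOpen {A : Type u} [CommRing A] [IsDomain A] (U : (Spec (CommRingCat.of A)).Opens)
    (hU : Dense (U : Set (Spec (CommRingCat.of A)))) :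
    ∃ g : A, g ≠ 0 ∧ Set.range (jg g) ⊆ (U : Set (Spec (CommRingCat.of A))) := by
  obtain ⟨x, hx⟩ : (U : Set (Spec (CommRingCat.of A))).Nonempty := by
    have : Nonempty (Spec (CommRingCat.of A)) := ⟨(⊥ : PrimeSpectrum A)⟩
    exact hU.nonempty
  obtain ⟨_, ⟨g, rfl⟩, hxg, hgU⟩ :=
    PrimeSpectrum.isTopologicalBasis_basic_opens.exists_subset_of_mem_open hx U.2
  refine ⟨g, ?_, ?_⟩
  · rintro rfl
    exact hxg (zero_mem _)
  · rw [range_jg]
    exact hgU

theorem isUnit_natCast_spec {A : Type u} [CommRing A] {n : ℕ} (hn : IsUnit (n : A)) :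
    IsUnit (n : Γ(Spec (CommRingCat.of A), ⊤)) := by
  have h := hn.map (Scheme.ΓSpecIso (CommRingCat.of A)).inv.hom
  rwa [map_natCast] at h

/-- The induction step. -/
theorem ft_succ (m : ℕ) (h : FT.{u} m) (hO : FO.{u} (m + 1)) : FT.{u} (m + 1) := by
  intro K _ _ n hn X Y a b _ _ _ _ f w F hF q
  have hND : IsDomain (MvPowerSeries (Fin (m + 1)) K) := NoZeroDivisors.to_isDomain _
  have hNR : IsNoetherianRing (MvPowerSeries (Fin (m + 1)) K) := inferInstance
  have hNS : IsNoetherian (SP (m + 1) K) := inferInstance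
  have hNX : IsLocallyNoetherian X := LocallyOfFiniteType.isLocallyNoetherian a
  have hNY : IsLocallyNoetherian Y := LocallyOfFiniteType.isLocallyNoetherian b
  obtain ⟨k, hk⟩ := hF.2
  have hu : IsUnit ((n ^ k : ℕ) : Γ(SP (m + 1) K, ⊤)) := by
    refine isUnit_natCast_spec ?_
    have h0 : ((n ^ k : ℕ) : K) ≠ 0 := Nat.cast_ne_zero.mpr (pow_ne_zero k hn.ne')
    have h1 := (isUnit_iff_ne_zero.mpr h0).map (algebraMap K (MvPowerSeries (Fin (m + 1)) K))
    rwa [map_natCast] at h1
  obtain ⟨U, hU, hc, -⟩ := Groth.Agent.S3123.result (n ^ k) hu a b f w F hF.1 hk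
  obtain ⟨g, hg, hgU⟩ := exists_basicOpen U hU
  have hRX : Set.range (pullback.fst a (tg g)) = (Set.range (pullback.fst a (jg g)))ᶜ :=
    FinDVR.range_pullback_fst a (tg g) (jg g) (range_tg g)
  let f₁ : pullback a (jg g) ⟶ pullback b (jg g) := pullback.map a (jg g) b (jg g) f (𝟙 _) (𝟙 _)
    (by rw [w, Category.comp_id]) (by rw [Category.comp_id, Category.id_comp])
  let f₀ : pullback a (tg g) ⟶ pullback b (tg g) := pullback.map a (tg g) b (tg g) f (𝟙 _) (𝟙 _)
    (by rw [w, Category.comp_id]) (by rw [Category.comp_id, Category.id_comp])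
  have e₁ : f₁ ≫ pullback.fst b (jg g) = pullback.fst a (jg g) ≫ f := pullback.lift_fst _ _ _
  have e₁' : f₁ ≫ pullback.snd b (jg g) = pullback.snd a (jg g) :=
    (pullback.lift_snd _ _ _).trans (Category.comp_id _)
  have e₀ : pullback.fst a (tg g) ≫ f = f₀ ≫ pullback.fst b (tg g) := (pullback.lift_fst _ _ _).symm
  have hsq : IsPullback (pullback.fst a (jg g)) f₁ f (pullback.fst b (jg g)) := by
    refine IsPullback.of_bot ?_ e₁.symm (IsPullback.of_hasPullback b (jg g))
    rw [w, e₁']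
    exact IsPullback.of_hasPullback a (jg g)
  refine Dev.cn_rpush_one (pullback.fst a (jg g)) (pullback.fst a (tg g)) hRX f (pullback.fst b (tg g)) f₀ e₀
    (fun G hG q => ?_) F hF (fun q => ?_) (fun q => ?_) q
  · obtain ⟨κ, hκ⟩ := Groth.Agent.Etdl.H437.WeierQuot.exists_finite_quot g hg
    let t : Spec (CommRingCat.of (MvPowerSeries (Fin (m + 1)) K ⧸ Ideal.span {g})) ⟶ SP m K :=
      Spec.map (CommRingCat.ofHom κ)
    have ht : IsFinite t := (IsFinite.SpecMap_iff _).2 hκ
    exact Dev.fin_of_finiteType (h K n hn) t (pullback.snd a (tg g)) (pullback.snd b (tg g)) f₀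
      ((pullback.lift_snd _ _ _).trans (Category.comp_id _)) G hG q
  · exact hO K n hn g hg a _ (cn_pull _ hF) q
  · refine Cn.iso ((rpushCongr e₁ q).app _) ?_
    refine rpush_comp f₁ (pullback.fst b (jg g)) (weakSerre_Cn n Y) Cn.iso (hO K n hn g hg b) _
      (fun p => ?_) q
    obtain ⟨e⟩ := nonempty_iso_of_etale hsq F p
    refine Cn.iso e ⟨?_, ⟨k, killedBy_pull _ (killedBy_rpush f hk p)⟩⟩
    have hle : Set.range (pullback.fst b (jg g)) ⊆ Set.range (b ⁻¹ᵁ U).ι := by
      rw [Scheme.Pullback.range_fst, Scheme.Opens.range_ι]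
      exact Set.preimage_mono hgU
    let l := IsOpenImmersion.lift (b ⁻¹ᵁ U).ι (pullback.fst b (jg g)) hle
    have hl : l ≫ (b ⁻¹ᵁ U).ι = pullback.fst b (jg g) := IsOpenImmersion.lift_fac _ _ _
    have e2 : (EtCoh.pull l).obj ((EtCoh.pull (b ⁻¹ᵁ U).ι).obj ((EtCoh.Rpush f p).obj F)) ≅
        (EtCoh.pull (pullback.fst b (jg g))).obj ((EtCoh.Rpush f p).obj F) :=
      (Groth.Agent.EtpbcB.BCCalc.pullComp (b ⁻¹ᵁ U).ι l).app _ ≪≫ eqToIso (by rw [hl])
    exact (Cn.iso e2 (n := n) ⟨Groth.Agent.S0127.result l _ (hc p),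
      ⟨k, killedBy_pull _ (killedBy_pull _ (killedBy_rpush f hk p))⟩⟩).1

end Groth.Agent.Etdl.H431.Succ
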